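import Groth.Agent.GrpSchLib.HopfQuotRank
import Mathlib.AlgebraicGeometry.Morphisms.FlatRank
import Mathlib.AlgebraicGeometry.Morphisms.ClosedImmersion
import Mathlib.AlgebraicGeometry.ResidueField

/-! Degrees of composites and closed immersions of equal degree. -/

set_option autoImplicit false
set_option backward.isDefEq.respectTransparency false
set_option backward.isDefEq.respectTransparency.types false

universe u

open CategoryTheory Limits AlgebraicGeometry
open scoped TensorProduct

namespace Groth.Agent.BTLib29

theorem finrank_isoSpec {X Y : Scheme.{u}} [IsAffine X] [IsAffine Y] (f : X ⟶ Y) [Flat f] [IsFinite f] (y : Y) :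
    (Spec.map f.appTop).finrank (Y.isoSpec.hom y) = f.finrank y := by
  have h : IsPullback X.isoSpec.hom f (Spec.map f.appTop) Y.isoSpec.hom :=
    IsPullback.of_horiz_isIso ⟨(Scheme.isoSpec_hom_naturality f)⟩
  have : Flat (Spec.map f.appTop) := (Flat.SpecMap_iff).mpr f.flat_appTop
  have : IsFinite (Spec.map f.appTop) := (IsFinite.SpecMap_iff _).mpr f.finite_appTop
  exact (Scheme.Hom.finrank_of_isPullback _ _ _ _ h y).symm

theorem finrank_comp_field {k : Type u} [Field k] {X Y : Scheme.{u}} (f : X ⟶ Y) (g : Y ⟶ Spec (CommRingCat.of k))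
    [Flat f] [IsFinite f] [IsFinite g] (r : ℕ) (hr : ∀ y, f.finrank y = r) (s : Spec (CommRingCat.of k)) :
    (f ≫ g).finrank s = r * g.finrank s := by
  have : Flat g := by
    have : Subsingleton (Spec (CommRingCat.of k)) := inferInstanceAs (Subsingleton (PrimeSpectrum k))
    have : IsAffine Y := isAffine_of_isAffineHom g
    rw [← MorphismProperty.cancel_left_of_respectsIso @Flat Y.isoSpec.inv]
    obtain ⟨φ, hφ⟩ := Spec.map_surjective (Y.isoSpec.inv ≫ g)
    rw [← hφ, Flat.SpecMap_iff]
    let := φ.hom.toAlgebra
    exact RingHom.flat_algebraMap_iff.mpr (inferInstance : Module.Flat k _)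
  have : IsAffine Y := isAffine_of_isAffineHom g
  have : IsAffine X := isAffine_of_isAffineHom f
  obtain ⟨φ, hφ⟩ := Spec.map_surjective (Y.isoSpec.inv ≫ g)
  let ψ := f.appTop
  have hg : g = Y.isoSpec.hom ≫ Spec.map φ := by rw [hφ, Iso.hom_inv_id_assoc]
  have hfg : f ≫ g = X.isoSpec.hom ≫ Spec.map (φ ≫ ψ) := by
    rw [hg, ← Category.assoc, ← Scheme.isoSpec_hom_naturality, Category.assoc, Spec.map_comp]
  have : Flat (Spec.map φ) := by rw [hφ]; infer_instance
  have : IsFinite (Spec.map φ) := by rw [hφ]; infer_instance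
  have : Flat (Spec.map ψ) := (Flat.SpecMap_iff).mpr f.flat_appTop
  have : IsFinite (Spec.map ψ) := (IsFinite.SpecMap_iff _).mpr f.finite_appTop
  have : Flat (Spec.map (φ ≫ ψ)) := by rw [Spec.map_comp]; infer_instance
  have : IsFinite (Spec.map (φ ≫ ψ)) := by rw [Spec.map_comp]; infer_instance
  rw [hfg, Scheme.Hom.finrank_comp_left_of_isIso, hg, Scheme.Hom.finrank_comp_left_of_isIso]
  let Q : Type u := Γ(Y, ⊤)
  let D : Type u := Γ(X, ⊤)
  letI : Algebra k Q := φ.hom.toAlgebra
  letI : Algebra Q D := ψ.hom.toAlgebra
  letI : Algebra k D := (φ ≫ ψ).hom.toAlgebra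
  have : IsScalarTower k Q D := IsScalarTower.of_algebraMap_eq fun _ => rfl
  have : Module.Finite k Q := RingHom.finite_algebraMap.mp ((IsFinite.SpecMap_iff _).mp ‹IsFinite (Spec.map φ)›)
  have : Module.Finite Q D := RingHom.finite_algebraMap.mp f.finite_appTop
  have : Module.Flat Q D := RingHom.flat_algebraMap_iff.mp f.flat_appTop
  have : Module.Finite k D := Module.Finite.trans Q D
  have hφ' : φ = CommRingCat.ofHom (algebraMap k Q) := rfl
  have hψ' : φ ≫ ψ = CommRingCat.ofHom (algebraMap k D) := rfl
  rw [hψ', hφ', Scheme.Hom.finrank_SpecMap_algebraMap, Scheme.Hom.finrank_SpecMap_algebraMap,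
    Module.rankAtStalk_eq_finrank_of_free, Module.rankAtStalk_eq_finrank_of_free, Pi.natCast_apply, Pi.natCast_apply]
  have hrank : ∀ p : PrimeSpectrum Q, Module.rankAtStalk D p = r := fun p => by
    rw [← Scheme.Hom.finrank_SpecMap_algebraMap Q D p]
    obtain ⟨y, hy⟩ := Y.isoSpec.hom.surjective p
    rw [← hy]
    exact (finrank_isoSpec f y).trans (hr y)
  have : IsArtinianRing Q := IsArtinianRing.of_finite k Q
  obtain ⟨b⟩ := GrpSchLib.HopfQuot.nonempty_basis_of_rank (B := Q) (M := D) r hrank
  have := Module.Free.of_basis b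
  rcases subsingleton_or_nontrivial Q with h | h
  · have : Subsingleton D := Module.subsingleton Q D
    simp [Module.finrank_zero_of_subsingleton]
  · rw [← Module.finrank_mul_finrank k Q D, mul_comm, Module.finrank_eq_card_basis b, Fintype.card_fin]
    rfl

/-- The degree of a composite with a map of constant degree. -/
theorem finrank_comp {X Y Z : Scheme.{u}} (f : X ⟶ Y) (g : Y ⟶ Z) [Flat f] [IsFinite f] [Flat g] [IsFinite g] (r : ℕ)
    (hr : ∀ y, f.finrank y = r) (z : Z) : (f ≫ g).finrank z = r * g.finrank z := by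
  let j := Z.fromSpecResidueField z
  obtain ⟨s, hs⟩ : z ∈ Set.range j := (Z.range_fromSpecResidueField z).symm.subset rfl
  let f' := pullback.snd f (pullback.fst g j)
  let g' := pullback.snd g j
  have h : IsPullback (pullback.fst f (pullback.fst g j)) (f' ≫ g') (f ≫ g) j :=
    (IsPullback.of_hasPullback f (pullback.fst g j)).paste_vert (IsPullback.of_hasPullback g j)
  rw [← hs, ← Scheme.Hom.finrank_of_isPullback _ _ _ _ h s, ← Scheme.Hom.finrank_pullback_snd g j s]
  exact finrank_comp_field (k := Z.residueField z) f' g' r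
    (fun y => (Scheme.Hom.finrank_pullback_snd f _ y).trans (hr _)) s

/-- A closed immersion of finite locally free schemes of equal degree is an isomorphism. -/
theorem isIso_of_finrank_eq {X Y S : Scheme.{u}} [IsAffine S] (q : X ⟶ Y) [IsClosedImmersion q] (g : Y ⟶ S)
    [IsFinite g] [Flat g] [LocallyOfFinitePresentation g] [Flat (q ≫ g)] [LocallyOfFinitePresentation (q ≫ g)]
    (h : ∀ s, (q ≫ g).finrank s = g.finrank s) : IsIso q := by
  have : IsAffine Y := isAffine_of_isAffineHom g
  have : IsAffine X := isAffine_of_isAffineHom q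
  let C : Type u := Γ(Y, ⊤)
  let Q : Type u := Γ(X, ⊤)
  let R : Type u := Γ(S, ⊤)
  letI : Algebra R C := g.appTop.hom.toAlgebra
  letI : Algebra R Q := (q ≫ g).appTop.hom.toAlgebra
  let ψ : C →ₐ[R] Q :=
    { q.appTop.hom with
      commutes' := fun r => by
        show q.appTop (g.appTop r) = (q ≫ g).appTop r
        rw [Scheme.Hom.comp_appTop]; rfl }
  have : Module.Finite R C := RingHom.finite_algebraMap.mp g.finite_appTop
  have : Module.Finite R Q := RingHom.finite_algebraMap.mp (q ≫ g).finite_appTop
  have : Module.Flat R C := RingHom.flat_algebraMap_iff.mp g.flat_appTop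
  have : Module.Flat R Q := RingHom.flat_algebraMap_iff.mp (q ≫ g).flat_appTop
  have : Algebra.FinitePresentation R C :=
    RingHom.finitePresentation_algebraMap.mp (HasRingHomProperty.appTop (P := @LocallyOfFinitePresentation) g ‹_›)
  have : Algebra.FinitePresentation R Q :=
    RingHom.finitePresentation_algebraMap.mp (HasRingHomProperty.appTop (P := @LocallyOfFinitePresentation) (q ≫ g) ‹_›)
  have : Module.FinitePresentation R C := Module.FinitePresentation.of_finite_of_finitePresentation _ _
  have : Module.FinitePresentation R Q := Module.FinitePresentation.of_finite_of_finitePresentation _ _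
  have : Module.Projective R C := Module.Flat.projective_of_finitePresentation
  have : Module.Projective R Q := Module.Flat.projective_of_finitePresentation
  have hs : Function.Surjective ψ.toLinearMap := q.app_surjective ⊤ (isAffineOpen_top Y)
  obtain ⟨σ, hσ⟩ := Module.projective_lifting_property ψ.toLinearMap LinearMap.id hs
  let K := LinearMap.ker ψ.toLinearMap
  have hσ' : ∀ b, ψ.toLinearMap (σ b) = b := fun b => LinearMap.congr_fun hσ b
  let e : C ≃ₗ[R] K × Q :=
    { toFun := fun c => (⟨c - σ (ψ.toLinearMap c), by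
        show ψ.toLinearMap (c - σ (ψ.toLinearMap c)) = 0
        rw [map_sub, hσ', sub_self]⟩, ψ.toLinearMap c)
      map_add' := fun a b => by
        refine Prod.ext (Subtype.ext ?_) (map_add _ a b)
        show a + b - σ (ψ.toLinearMap (a + b)) = (a - σ (ψ.toLinearMap a)) + (b - σ (ψ.toLinearMap b))
        rw [map_add, map_add]; abel
      map_smul' := fun a b => by
        refine Prod.ext (Subtype.ext ?_) (map_smul _ a b)
        show a • b - σ (ψ.toLinearMap (a • b)) = a • (b - σ (ψ.toLinearMap b))
        rw [map_smul, map_smul, smul_sub]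
      invFun := fun p => p.1.1 + σ p.2
      left_inv := fun c => sub_add_cancel c _
      right_inv := fun p => by
        have h1 : ψ.toLinearMap p.1.1 = 0 := p.1.2
        refine Prod.ext (Subtype.ext ?_) (by show ψ.toLinearMap (p.1.1 + σ p.2) = p.2; rw [map_add, h1, hσ', zero_add])
        show p.1.1 + σ p.2 - σ (ψ.toLinearMap (p.1.1 + σ p.2)) = p.1.1
        rw [map_add, h1, zero_add, hσ', add_sub_cancel_right] }
  have : Module.Finite R (K × Q) := Module.Finite.equiv e
  have : Module.Finite R K := Module.Finite.of_surjective (LinearMap.fst R K Q) LinearMap.fst_surjective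
  have : Module.Projective R (K × Q) := Module.Projective.of_equiv e
  have : Module.Projective R K := Module.Projective.of_split (LinearMap.inl R K Q) (LinearMap.fst R K Q) (LinearMap.fst_comp_inl _ _ _)
  have h0 : Subsingleton K := by
    rw [← Module.rankAtStalk_eq_zero_iff_subsingleton (R := R)]
    ext p
    have h1 := congrFun (Module.rankAtStalk_eq_of_equiv e) p
    rw [Module.rankAtStalk_prod, Pi.add_apply] at h1
    have h2 : Module.rankAtStalk Q p = Module.rankAtStalk C p := by
      obtain ⟨s, hs⟩ := S.isoSpec.hom.surjective p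
      rw [← Scheme.Hom.finrank_SpecMap_algebraMap R Q p, ← Scheme.Hom.finrank_SpecMap_algebraMap R C p, ← hs]
      exact (finrank_isoSpec (q ≫ g) s).trans ((h s).trans (finrank_isoSpec g s).symm)
    show Module.rankAtStalk K p = 0
    omega
  have hinj : Function.Injective q.appTop := fun a b hab => by
    have : (e a).1 = (e b).1 := Subsingleton.elim _ _
    exact e.injective (Prod.ext this hab)
  have : IsIso q.appTop := (ConcreteCategory.isIso_iff_bijective _).mpr ⟨hinj, hs⟩
  have : q = X.isoSpec.hom ≫ Spec.map q.appTop ≫ Y.isoSpec.inv := by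
    rw [← Category.assoc, Scheme.isoSpec_hom_naturality, Category.assoc, Iso.hom_inv_id, Category.comp_id]
  rw [this]
  infer_instance

end Groth.Agent.BTLib29
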