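import Groth.Agent.BTLib29.FinRank
import Groth.Agent.GrpdLib.EquivRel
import Groth.Agent.GrpdLib.AffLocQuot
import Groth.Agent.GrpdField29.PairGrpd
import Groth.Agent.GrpSchLib.RankOneBig
import Groth.Prelude.Def_Mor2

/-! A map of finite locally free schemes whose kernel pair has the right degree is finite locally free. -/

set_option autoImplicit false
set_option backward.isDefEq.respectTransparency false
set_option backward.isDefEq.respectTransparency.types false

universe u

open CategoryTheory Limits AlgebraicGeometry Grpd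

namespace Groth.Agent.BTLib29

/-- A morphism of finite locally free schemes whose kernel pair has degree `r` is finite locally free of degree `r`,
when the degrees agree. -/
theorem flf_of_kernelPair {S A B : Scheme.{u}} [IsAffine S] [IsLocallyNoetherian S] (f : A ⟶ B) (gA : A ⟶ S)
    (gB : B ⟶ S) (hf : f ≫ gB = gA) (hA : Mor2.IsFinLocFree gA) (hB : Mor2.IsFinLocFree gB) (r : ℕ) (hr : 0 < r)
    (hdeg : ∀ s, gA.finrank s = r * gB.finrank s)
    (hP : Mor2.IsFinLocFreeOfDeg r (pullback.fst f f)) :
    Mor2.IsFinLocFreeOfDeg r f ∧ Surjective f := by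
  obtain ⟨hA₁, hA₂, hA₃⟩ := hA
  obtain ⟨hB₁, hB₂, hB₃⟩ := hB
  obtain ⟨⟨hP₁, hP₂, hP₃⟩, hP₄⟩ := hP
  have : IsAffine A := isAffine_of_isAffineHom gA
  have : IsAffine B := isAffine_of_isAffineHom gB
  let G := GrpdField29.pairGrpd f
  have hs : G.s = (pullbackSymmetry f f).hom ≫ pullback.fst f f := (pullbackSymmetry_hom_comp_fst f f).symm
  have : IsFinite G.s := by rw [hs]; infer_instance
  have : Flat G.s := by rw [hs]; infer_instance
  have : LocallyOfFinitePresentation G.s := by rw [hs]; infer_instance
  have : IsAffine G.U := ‹IsAffine A›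
  have : IsAffine G.R := inferInstanceAs (IsAffine (pullback f f))
  have hj : G.j = 𝟙 _ := by
    apply pullback.hom_ext <;> simp [GroupoidScheme.j, G]
  have : Mono G.j := ⟨fun a b h => by rw [hj] at h; simpa using h⟩
  let p : A ⟶ Spec (CommRingCat.of G.invariants) := G.toQuot
  obtain ⟨hp₁, hp₂, hp₃⟩ : IsFinite p ∧ Flat p ∧ LocallyOfFinitePresentation p := GrpdLib.toQuot_finLocFree G
  have hpb : IsPullback (pullback.fst f f) (pullback.snd f f) p p := GrpdLib.isPullback_toQuot G
  have hp : Surjective p := ⟨GrpdLib.surjective_toQuot G⟩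
  have hpt : p.appTop ≫ 𝟙 _ = (Scheme.ΓSpecIso _).hom ≫ CommRingCat.ofHom G.invariants.subtype := by
    show (G.U.toSpecΓ ≫ Spec.map _).appTop ≫ 𝟙 _ = _
    rw [Category.comp_id, Scheme.Hom.comp_appTop, Scheme.toSpecΓ_appTop, Scheme.ΓSpecIso_naturality]
  rw [Category.comp_id] at hpt
  have hinj : Function.Injective p.appTop := by
    rw [hpt]
    exact Subtype.val_injective.comp (ConcreteCategory.bijective_of_isIso (Scheme.ΓSpecIso _).hom).1
  obtain ⟨q, hq, -⟩ := GrpdLib.existsUnique_lift p f hinj fun z => by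
    have hz : f.appTop z ∈ G.invariants := by
      show (f.appTop ≫ (pullback.snd f f).appTop) z = (f.appTop ≫ (pullback.fst f f).appTop) z
      rw [← Scheme.Hom.comp_appTop, ← Scheme.Hom.comp_appTop, pullback.condition]
    obtain ⟨w, hw⟩ := (ConcreteCategory.bijective_of_isIso (Scheme.ΓSpecIso (CommRingCat.of G.invariants)).hom).2 ⟨_, hz⟩
    refine ⟨w, ?_⟩
    rw [hpt]
    show G.invariants.subtype ((Scheme.ΓSpecIso (CommRingCat.of G.invariants)).hom w) = _
    rw [hw]
    rfl
  -- `q` is a monomorphism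
  let p₂ : pullback f f ⟶ pullback q q := pullback.map f f q q p p (𝟙 _) (by rw [hq]; simp) (by rw [hq]; simp)
  have hp₂' : Flat p₂ ∧ Surjective p₂ := by
    let a : pullback f f ⟶ pullback (p ≫ q) (p ≫ q) := (pullback.congrHom hq.symm hq.symm).hom
    let m := pullback.map (p ≫ q) (p ≫ q) q q p p (𝟙 B) (Category.comp_id _) (Category.comp_id _)
    have he : p₂ = a ≫ m := by
      apply pullback.hom_ext <;> simp [p₂, a, m]
    rw [he]
    have : Flat m := MorphismProperty.pullbackMap (P := @Flat) hp₂ hp₂ rfl rfl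
    have : Surjective m := MorphismProperty.pullbackMap (P := @Surjective) hp hp rfl rfl
    exact ⟨inferInstance, inferInstance⟩
  have := hp₂'.1
  have := hp₂'.2
  have : QuasiCompact p₂ := by
    have : QuasiCompact (p₂ ≫ terminal.from _) := by
      rw [terminal.comp_from]
      exact (compactSpace_iff_quasiCompact _).mp inferInstance
    exact QuasiCompact.of_comp p₂ (terminal.from (pullback q q))
  have : Epi p₂ := Flat.epi_of_flat_of_surjective p₂
  have : Mono q := by
    refine ⟨fun a b hab => ?_⟩
    have h1 : pullback.fst q q = pullback.snd q q := by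
      rw [← cancel_epi p₂]
      simp only [p₂, pullback.lift_fst, pullback.lift_snd]
      exact hpb.w
    calc a = pullback.lift a b hab ≫ pullback.fst q q := (pullback.lift_fst _ _ _).symm
      _ = b := by rw [h1, pullback.lift_snd]
  let gQ := q ≫ gB
  have hpg : p ≫ gQ = gA := by rw [← Category.assoc, hq, hf]
  have hgQ : IsFinite gQ := by
    rw [HasAffineProperty.iff_of_isAffine (P := @IsFinite)]
    refine ⟨inferInstance, ?_⟩
    have : IsNoetherianRing Γ(S, ⊤) := IsLocallyNoetherian.component_noetherian ⟨⊤, isAffineOpen_top S⟩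
    letI : Algebra Γ(S, ⊤) Γ(Spec (CommRingCat.of G.invariants), ⊤) := gQ.appTop.hom.toAlgebra
    letI : Algebra Γ(S, ⊤) Γ(A, ⊤) := gA.appTop.hom.toAlgebra
    have : Module.Finite Γ(S, ⊤) Γ(A, ⊤) := RingHom.finite_algebraMap.mp gA.finite_appTop
    let ι : Γ(Spec (CommRingCat.of G.invariants), ⊤) →ₐ[Γ(S, ⊤)] Γ(A, ⊤) :=
      { p.appTop.hom with
        commutes' := fun c => by
          show p.appTop (gQ.appTop c) = gA.appTop c
          rw [← CommRingCat.comp_apply, ← Scheme.Hom.comp_appTop, hpg] }
    exact RingHom.finite_algebraMap.mpr (Module.Finite.of_injective ι.toLinearMap hinj)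
  have : Flat (p ≫ gQ) := by rw [hpg]; exact hA₂
  have hfl : Flat gQ := GrpSchLib.RankOne.flat_of_comp p gQ
  have : LocallyOfFinitePresentation gQ := by
    rw [HasRingHomProperty.iff_of_isAffine (P := @LocallyOfFinitePresentation)]
    have : IsNoetherianRing Γ(S, ⊤) := IsLocallyNoetherian.component_noetherian ⟨⊤, isAffineOpen_top S⟩
    exact RingHom.FinitePresentation.of_finiteType.mp
      (RingHom.Finite.finiteType gQ.finite_appTop)
  have hpdeg : ∀ y, p.finrank y = r := fun y => by
    obtain ⟨x, rfl⟩ := p.surjective y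
    rw [← Scheme.Hom.finrank_of_isPullback _ _ _ _ hpb.flip x]
    exact hP₄ x
  have : IsFinite q := by
    have : IsFinite (q ≫ gB) := hgQ
    exact IsFinite.of_comp q gB
  have : IsClosedImmersion q := (IsClosedImmersion.iff_isFinite_and_mono q).mpr ⟨inferInstance, inferInstance⟩
  have : IsIso q := isIso_of_finrank_eq q gB fun s => by
    have h1 := finrank_comp p gQ r hpdeg s
    rw [hpg, hdeg] at h1
    exact (Nat.eq_of_mul_eq_mul_left hr h1).symm
  rw [← hq]
  refine ⟨⟨⟨inferInstance, inferInstance, inferInstance⟩, fun y => ?_⟩, inferInstance⟩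
  rw [finrank_comp p q r hpdeg, Scheme.Hom.finrank_eq_one_of_isIso, Pi.one_apply, mul_one]

end Groth.Agent.BTLib29
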